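import Mathlib
import Cfsg.Prelude.Def_Characters
import Cfsg.Prelude.Def_Blocks
import Cfsg.Agent.Lib.Helper3.Char
import Cfsg.Agent.Lib.Helper3.CharCore
import Cfsg.Agent.Lib.Helper3.CharInt
import Cfsg.Agent.Lib.Helper3.CharInd
import Cfsg.Agent.Lib.Helper3.CharAb
import Cfsg.Agent.Lib.Helper3.CharLinear
import Cfsg.Agent.Lib.Helper3.BlkLocal
import Cfsg.Agent.Lib.Helper3.BlkDef

open Cfsg
open Cfsg.Agent.Lib.Helper3.Char Cfsg.Agent.Lib.Helper3.CharCore Cfsg.Agent.Lib.Helper3.CharInt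
open Cfsg.Agent.Lib.Helper3.CharInd Cfsg.Agent.Lib.Helper3.CharAb
open Cfsg.Agent.Lib.Helper3.CharLinear
open Cfsg.Agent.Lib.Helper3.BlkLocal Cfsg.Agent.Lib.Helper3.BlkDef
open scoped ComplexConjugate

universe u

namespace Cfsg.Agent.Lib.Helper3.BlkCong

theorem closure_pair_comm {G : Type u} [Group G] (z g : G) (hc : z * g = g * z)
    (a b : Subgroup.closure ({z, g} : Set G)) : a * b = b * a := by
  apply Subtype.ext
  show (a : G) * b = b * a
  have h : Commute (a : G) (b : G) := by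
    refine Subgroup.closure_induction₂ (p := fun x y _ _ => Commute x y) ?_ ?_ ?_ ?_ ?_ ?_ ?_
      a.2 b.2
    · intro x y hx hy
      rcases hx with rfl | rfl <;> rcases hy with rfl | rfl
      · exact Commute.refl _
      · exact hc
      · exact hc.symm
      · exact Commute.refl _
    · intro x _
      exact Commute.one_left x
    · intro x _
      exact Commute.one_right x
    · intro x y z _ _ _ h1 h2
      exact h1.mul_left h2
    · intro x y z _ _ _ h1 h2
      exact h1.mul_right h2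
    · intro x y _ _ h
      exact h.inv_left
    · intro x y _ _ h
      exact h.inv_right
  exact h

theorem char_cong {p : ℕ} {M : Ideal AlgInt} (hM : IsPModular p M) {G : Type u} [Group G]
    [Finite G] {χ : G → ℂ} (hχ : Cfsg.IsCharacter G χ) (z g : G) (hc : z * g = g * z) (k : ℕ)
    (hz : z ^ (p ^ k) = 1) : MemLocalIdeal M (χ (z * g) - χ g) := by
  have hMp := hM.2.1.isPrime
  have hab := closure_pair_comm z g hc
  have hχA : Cfsg.IsCharacter (Subgroup.closure ({z, g} : Set G))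
      (χ ∘ (Subgroup.closure ({z, g} : Set G)).subtype) := comp_isCharacter _ hχ
  obtain ⟨l, hl, hsum⟩ := isCharacter_decomp hχA
  have hzA : z ∈ Subgroup.closure ({z, g} : Set G) := Subgroup.subset_closure (by simp)
  have hgA : g ∈ Subgroup.closure ({z, g} : Set G) := Subgroup.subset_closure (by simp)
  have key : ∀ l : List (Subgroup.closure ({z, g} : Set G) → ℂ),
      (∀ ψ ∈ l, Cfsg.IsIrrCharacter (Subgroup.closure ({z, g} : Set G)) ψ) →
      MemLocalIdeal M (l.sum (⟨z, hzA⟩ * ⟨g, hgA⟩) - l.sum ⟨g, hgA⟩) := by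
    intro l
    induction l with
    | nil =>
      intro _
      simp only [List.sum_nil, Pi.zero_apply, sub_self]
      exact li_zero hMp
    | cons ψ l ih =>
      intro hl
      have hψ := hl ψ (by simp)
      have ih' := ih (fun φ hφ => hl φ (by simp [hφ]))
      rw [List.sum_cons, Pi.add_apply, Pi.add_apply]
      have e : ψ (⟨z, hzA⟩ * ⟨g, hgA⟩) + l.sum (⟨z, hzA⟩ * ⟨g, hgA⟩) -
          (ψ ⟨g, hgA⟩ + l.sum ⟨g, hgA⟩) =
          (ψ (⟨z, hzA⟩ * ⟨g, hgA⟩) - ψ ⟨g, hgA⟩) +
          (l.sum (⟨z, hzA⟩ * ⟨g, hgA⟩) - l.sum ⟨g, hgA⟩) := by ring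
      rw [e]
      apply li_add hMp _ ih'
      have h1 := abelian_linear hab hψ
      obtain ⟨lam, hlam⟩ := hom_of_deg_one (isCharacter_of_irr hψ) h1
      have hint : IsIntegral ℤ (ψ ⟨g, hgA⟩) := char_isIntegral (isCharacter_of_irr hψ) _
      rw [hlam] at hint ⊢
      simp only [map_mul, Units.val_mul]
      have e2 : (lam ⟨z, hzA⟩ : ℂ) * (lam ⟨g, hgA⟩ : ℂ) - (lam ⟨g, hgA⟩ : ℂ) =
          ((lam ⟨z, hzA⟩ : ℂ) - 1) * (lam ⟨g, hgA⟩ : ℂ) := by ring
      rw [e2]
      apply li_mul_right hMp _ (lr_of_isIntegral hMp hint)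
      apply li_root hM _ k
      rw [← Units.val_pow_eq_pow_val, ← map_pow]
      have e3 : (⟨z, hzA⟩ : Subgroup.closure ({z, g} : Set G)) ^ (p ^ k) = 1 := by
        apply Subtype.ext
        simpa using hz
      rw [e3, map_one, Units.val_one]
  have h2 := key l hl
  rw [← hsum] at h2
  exact h2

theorem ratio_lr {p : ℕ} {M : Ideal AlgInt} (hM : IsPModular p M) (n d : ℕ) (hd : d ≠ 0)
    (hn : n ≠ 0) (h : d.factorization p ≤ n.factorization p) :
    MemLocalRing M ((n : ℂ) / (d : ℂ)) := by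
  have hp := hM.1
  have hMp := hM.2.1.isPrime
  have h1 : p ^ (d.factorization p) ∣ n := (hp.pow_dvd_iff_le_factorization hn).mpr h
  obtain ⟨t, ht⟩ := h1
  have h2 := Nat.ordProj_mul_ordCompl_eq_self d p
  have h3 : ¬ p ∣ d / p ^ d.factorization p := Nat.not_dvd_ordCompl hp hd
  have hm0 : ((d / p ^ d.factorization p : ℕ) : ℂ) ≠ 0 := by
    intro h0
    apply h3
    have : d / p ^ d.factorization p = 0 := by exact_mod_cast h0
    rw [this]
    exact dvd_zero p
  have hp0 : (p : ℂ) ≠ 0 := by exact_mod_cast hp.ne_zero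
  have e : (n : ℂ) / (d : ℂ) = (t : ℂ) * ((d / p ^ d.factorization p : ℕ) : ℂ)⁻¹ := by
    have hd' : (d : ℂ) = ((p ^ d.factorization p : ℕ) : ℂ) * ((d / p ^ d.factorization p : ℕ) : ℂ) := by
      exact_mod_cast h2.symm
    rw [hd', ht]
    push_cast
    field_simp
  rw [e]
  exact lr_mul hMp (lr_of_isIntegral hMp (isIntegral_natCast _)) (lr_nat_inv hM h3)

end Cfsg.Agent.Lib.Helper3.BlkCong
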