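import Mathlib
import Cfsg.Prelude.Def_Characters
import Cfsg.Prelude.Def_Blocks
import Cfsg.Agent.Lib.Helper3.Char
import Cfsg.Agent.Lib.Helper3.CharCore
import Cfsg.Agent.Lib.Helper3.CharInt
import Cfsg.Agent.Lib.Helper3.CharInd
import Cfsg.Agent.Lib.Helper3.CharAb
import Cfsg.Agent.Lib.Helper3.CharLinear
import Cfsg.Agent.Lib.Helper3.BlkLocal
import Cfsg.Agent.Lib.Helper3.BlkDef
import Cfsg.Agent.Lib.Helper3.BlkCong

open Cfsg
open Cfsg.Agent.Lib.Helper3.Char Cfsg.Agent.Lib.Helper3.CharCore Cfsg.Agent.Lib.Helper3.CharInt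
open Cfsg.Agent.Lib.Helper3.CharInd Cfsg.Agent.Lib.Helper3.CharAb
open Cfsg.Agent.Lib.Helper3.CharLinear
open Cfsg.Agent.Lib.Helper3.BlkLocal Cfsg.Agent.Lib.Helper3.BlkDef
open Cfsg.Agent.Lib.Helper3.BlkCong
open scoped ComplexConjugate

universe u

namespace Cfsg.Agent.Lib.Helper3.BlkFrob

theorem nat_not_unit {p : ℕ} (hp : p.Prime) (γ : AlgInt) : (γ : ℂ) * (p : ℂ) ≠ 1 := by
  intro h
  have hp0 : (p : ℂ) ≠ 0 := Nat.cast_ne_zero.mpr hp.ne_zero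
  have h1 : (γ : ℂ) = algebraMap ℚ ℂ ((p : ℚ)⁻¹) := by
    rw [map_inv₀, map_natCast]
    field_simp
    exact h
  have h2 : IsIntegral ℤ (algebraMap ℚ ℂ ((p : ℚ)⁻¹)) := by
    rw [← h1]
    exact γ.2
  have h3 : IsIntegral ℤ ((p : ℚ)⁻¹) :=
    (isIntegral_algebraMap_iff (algebraMap ℚ ℂ).injective).mp h2
  obtain ⟨n, hn⟩ := IsIntegrallyClosed.isIntegral_iff.mp h3
  have hpq : (p : ℚ) ≠ 0 := Nat.cast_ne_zero.mpr hp.ne_zero
  have h4 : (n : ℚ) * (p : ℚ) = 1 := by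
    have : (n : ℚ) = (p : ℚ)⁻¹ := by simpa using hn
    rw [this]
    field_simp
  have h5 : n * (p : ℤ) = 1 := by exact_mod_cast h4
  have h6 : ((p : ℤ)) ∣ 1 := ⟨n, by rw [mul_comm]; exact h5.symm⟩
  have h7 : (p : ℤ) = 1 ∨ (p : ℤ) = -1 := Int.isUnit_iff.mp (isUnit_of_dvd_one h6)
  have h8 := hp.two_le
  omega

theorem exists_pmodular {p : ℕ} (hp : p.Prime) : ∃ M : Ideal AlgInt, IsPModular p M := by
  have hne : Ideal.span {(p : AlgInt)} ≠ ⊤ := by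
    intro h
    have h1 : (1 : AlgInt) ∈ Ideal.span {(p : AlgInt)} := by
      rw [h]
      trivial
    obtain ⟨γ, hγ⟩ := Ideal.mem_span_singleton'.mp h1
    apply nat_not_unit hp γ
    have := congrArg (fun t : AlgInt => (t : ℂ)) hγ
    simpa using this
  obtain ⟨M, hM, hle⟩ := Ideal.exists_le_maximal _ hne
  exact ⟨M, hp, hM, hle (Ideal.subset_span rfl)⟩

theorem frob_add {p : ℕ} (hp : p.Prime) (n : ℕ) {a b : ℂ} (ha : IsIntegral ℤ a)
    (hb : IsIntegral ℤ b) :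
    ∃ γ : AlgInt, (a + b) ^ (p ^ n) = a ^ (p ^ n) + b ^ (p ^ n) + (p : ℂ) * (γ : ℂ) := by
  obtain ⟨a', rfl⟩ : ∃ a' : AlgInt, (a' : ℂ) = a := ⟨⟨a, ha⟩, rfl⟩
  obtain ⟨b', rfl⟩ : ∃ b' : AlgInt, (b' : ℂ) = b := ⟨⟨b, hb⟩, rfl⟩
  obtain ⟨r, hr⟩ := exists_add_pow_prime_pow_eq hp a' b' n
  refine ⟨a' * b' * r, ?_⟩
  have := congrArg (fun t : AlgInt => (t : ℂ)) hr
  push_cast at this
  push_cast
  rw [this]
  ring

theorem char_pow_cong {p : ℕ} (hp : p.Prime) {G : Type u} [Group G]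
    [Finite G] {χ : G → ℂ} (hχ : Cfsg.IsCharacter G χ) (z g : G) (hc : z * g = g * z) (n : ℕ)
    (hz : z ^ (p ^ n) = 1) :
    ∃ γ : AlgInt, χ (z * g) ^ (p ^ n) - χ g ^ (p ^ n) = (p : ℂ) * (γ : ℂ) := by
  have hab := closure_pair_comm z g hc
  have hχA : Cfsg.IsCharacter (Subgroup.closure ({z, g} : Set G))
      (χ ∘ (Subgroup.closure ({z, g} : Set G)).subtype) := comp_isCharacter _ hχ
  obtain ⟨l, hl, hsum⟩ := isCharacter_decomp hχA
  have hzA : z ∈ Subgroup.closure ({z, g} : Set G) := Subgroup.subset_closure (by simp)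
  have hgA : g ∈ Subgroup.closure ({z, g} : Set G) := Subgroup.subset_closure (by simp)
  have key : ∀ l : List (Subgroup.closure ({z, g} : Set G) → ℂ),
      (∀ ψ ∈ l, Cfsg.IsIrrCharacter (Subgroup.closure ({z, g} : Set G)) ψ) →
      IsIntegral ℤ (l.sum (⟨z, hzA⟩ * ⟨g, hgA⟩)) ∧ IsIntegral ℤ (l.sum ⟨g, hgA⟩) ∧
      ∃ γ : AlgInt, (l.sum (⟨z, hzA⟩ * ⟨g, hgA⟩)) ^ (p ^ n) - (l.sum ⟨g, hgA⟩) ^ (p ^ n) =
        (p : ℂ) * (γ : ℂ) := by
    intro l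
    induction l with
    | nil =>
      intro _
      simp only [List.sum_nil, Pi.zero_apply, sub_self]
      exact ⟨isIntegral_zero, isIntegral_zero, 0, by simp⟩
    | cons ψ l ih =>
      intro hl
      have hψ := hl ψ (by simp)
      obtain ⟨i1, i2, γ, hγ⟩ := ih (fun φ hφ => hl φ (by simp [hφ]))
      rw [List.sum_cons, Pi.add_apply, Pi.add_apply]
      have j1 : IsIntegral ℤ (ψ (⟨z, hzA⟩ * ⟨g, hgA⟩)) :=
        char_isIntegral (isCharacter_of_irr hψ) _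
      have j2 : IsIntegral ℤ (ψ ⟨g, hgA⟩) := char_isIntegral (isCharacter_of_irr hψ) _
      refine ⟨j1.add i1, j2.add i2, ?_⟩
      obtain ⟨γ1, hγ1⟩ := frob_add hp n j1 i1
      obtain ⟨γ2, hγ2⟩ := frob_add hp n j2 i2
      have h1 := abelian_linear hab hψ
      obtain ⟨lam, hlam⟩ := hom_of_deg_one (isCharacter_of_irr hψ) h1
      have e1 : ψ (⟨z, hzA⟩ * ⟨g, hgA⟩) ^ (p ^ n) = ψ ⟨g, hgA⟩ ^ (p ^ n) := by
        rw [hlam]
        simp only [map_mul, Units.val_mul]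
        rw [mul_pow, ← Units.val_pow_eq_pow_val, ← map_pow]
        have e3 : (⟨z, hzA⟩ : Subgroup.closure ({z, g} : Set G)) ^ (p ^ n) = 1 := by
          apply Subtype.ext
          simpa using hz
        rw [e3, map_one, Units.val_one, one_mul]
      refine ⟨γ1 + γ - γ2, ?_⟩
      rw [hγ1, hγ2, e1]
      push_cast
      linear_combination hγ
  obtain ⟨_, _, γ, hγ⟩ := key l hl
  rw [← hsum] at hγ
  exact ⟨γ, hγ⟩

theorem li_of_pow_sub {p : ℕ} {M : Ideal AlgInt} (hM : IsPModular p M) (n : ℕ) {a b : ℂ}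
    (ha : IsIntegral ℤ a) (hb : IsIntegral ℤ b)
    (h : ∃ γ : AlgInt, a ^ (p ^ n) - b ^ (p ^ n) = (p : ℂ) * (γ : ℂ)) :
    MemLocalIdeal M (a - b) := by
  have hMp := hM.2.1.isPrime
  obtain ⟨γ, hγ⟩ := h
  obtain ⟨γ1, hγ1⟩ := frob_add hM.1 n (ha.sub hb) hb
  have e : (a - b) ^ (p ^ n) = (p : ℂ) * ((γ - γ1 : AlgInt) : ℂ) := by
    have e0 : a - b + b = a := by ring
    rw [e0] at hγ1
    push_cast
    linear_combination hγ - hγ1
  obtain ⟨a', rfl⟩ : ∃ a' : AlgInt, (a' : ℂ) = a := ⟨⟨a, ha⟩, rfl⟩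
  obtain ⟨b', rfl⟩ : ∃ b' : AlgInt, (b' : ℂ) = b := ⟨⟨b, hb⟩, rfl⟩
  have hmem : (a' - b') ^ (p ^ n) ∈ M := by
    have e2 : (a' - b') ^ (p ^ n) = (p : AlgInt) * (γ - γ1) := by
      apply Subtype.ext
      push_cast
      rw [e]
      push_cast
      ring
    rw [e2]
    exact M.mul_mem_right _ hM.2.2
  have h2 := hMp.mem_of_pow_mem _ hmem
  have h3 := (li_int_iff hMp _).mpr h2
  simpa using h3

end Cfsg.Agent.Lib.Helper3.BlkFrob
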