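import Mathlib
import Cfsg.Prelude.Def_Characters
import Cfsg.Agent.Lib.Helper3.CharInt

set_option autoImplicit false

namespace Cfsg.Agent.Lib.Helper3.CharGal

open Finset
open scoped IntermediateField
open Cfsg.Agent.Lib.Helper3.Char Cfsg.Agent.Lib.Helper3.CharInt

theorem norm_avg_roots (k : ℕ) (hk : 0 < k) (ζ : ℂ) (hζ : ζ ^ k = 1) (n : ℕ) (hn : 0 < n)
    (m : ℕ → ℕ) (hm : ∑ j ∈ range k, m j = n)
    (hint : IsIntegral ℤ ((∑ j ∈ range k, (m j : ℂ) * ζ ^ j) / (n : ℂ))) :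
    (∑ j ∈ range k, (m j : ℂ) * ζ ^ j) = 0 ∨ ‖∑ j ∈ range k, (m j : ℂ) * ζ ^ j‖ = n := by
  have hn0 : (n : ℂ) ≠ 0 := by exact_mod_cast hn.ne'
  have hζint : IsIntegral ℚ ζ := by
    refine ⟨Polynomial.X ^ k - 1, Polynomial.monic_X_pow_sub_C 1 hk.ne', ?_⟩
    simp [hζ]
  let L : IntermediateField ℚ ℂ := ℚ⟮ζ⟯
  have hfd : FiniteDimensional ℚ L := IntermediateField.adjoin.finiteDimensional hζint
  let ζL : L := IntermediateField.AdjoinSimple.gen ℚ ζ
  have hζL : (ζL : ℂ) = ζ := IntermediateField.AdjoinSimple.coe_gen ℚ ζ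
  have hζLk : ζL ^ k = 1 := by
    apply Subtype.ext
    rw [SubmonoidClass.coe_pow, hζL, hζ]
    rfl
  let α : L := (∑ j ∈ range k, (m j : L) * ζL ^ j) / (n : L)
  have hα : (α : ℂ) = (∑ j ∈ range k, (m j : ℂ) * ζ ^ j) / (n : ℂ) := by
    simp only [α]
    push_cast
    rw [hζL]
  have hαint : IsIntegral ℤ α := by
    have h1 : IsIntegral ℤ (algebraMap L ℂ α) := by
      rw [← hα] at hint
      exact hint
    exact (isIntegral_algebraMap_iff (algebraMap L ℂ).injective).mp h1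
  have hNint : IsIntegral ℤ (Algebra.norm ℚ α) := Algebra.isIntegral_norm ℚ hαint
  obtain ⟨z, hz⟩ := IsIntegrallyClosed.isIntegral_iff.mp hNint
  have hprod := Algebra.norm_eq_prod_embeddings ℚ ℂ α
  have hbound : ∀ σ : L →ₐ[ℚ] ℂ, ‖σ α‖ ≤ 1 := by
    intro σ
    have h1 : σ α = (∑ j ∈ range k, (m j : ℂ) * (σ ζL) ^ j) / (n : ℂ) := by
      simp only [α, map_div₀, map_sum, map_mul, map_pow, map_natCast]
    have h2 : (σ ζL) ^ k = 1 := by rw [← map_pow, hζLk, map_one]
    have h3 : ‖σ ζL‖ = 1 := Complex.norm_eq_one_of_pow_eq_one h2 hk.ne'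
    rw [h1, norm_div, Complex.norm_natCast, div_le_one (by exact_mod_cast hn)]
    refine (norm_sum_le _ _).trans ?_
    have h4 : ∀ j ∈ range k, ‖(m j : ℂ) * (σ ζL) ^ j‖ = (m j : ℝ) := by
      intro j _
      rw [norm_mul, norm_pow, h3, one_pow, mul_one, Complex.norm_natCast]
    rw [Finset.sum_congr rfl h4, ← hm]
    push_cast
    exact le_refl _
  have hle : ‖(algebraMap ℚ ℂ (Algebra.norm ℚ α))‖ ≤ ‖(α : ℂ)‖ := by
    classical
    rw [hprod, norm_prod]
    have h1 : (α : ℂ) = (IntermediateField.val L) α := rfl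
    rw [h1, ← Finset.mul_prod_erase Finset.univ (fun σ : L →ₐ[ℚ] ℂ => ‖σ α‖)
      (Finset.mem_univ (IntermediateField.val L))]
    have h2 : ∏ σ ∈ Finset.univ.erase (IntermediateField.val L), ‖σ α‖ ≤ 1 :=
      Finset.prod_le_one (fun σ _ => norm_nonneg _) (fun σ _ => hbound σ)
    calc ‖(IntermediateField.val L) α‖ *
          ∏ σ ∈ Finset.univ.erase (IntermediateField.val L), ‖σ α‖
        ≤ ‖(IntermediateField.val L) α‖ * 1 :=
          mul_le_mul_of_nonneg_left h2 (norm_nonneg _)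
      _ = ‖(IntermediateField.val L) α‖ := mul_one _
  have hαle : ‖(α : ℂ)‖ ≤ 1 := hbound (IntermediateField.val L)
  by_cases hz0 : z = 0
  · left
    rw [hz0] at hz
    have h1 : Algebra.norm ℚ α = 0 := by rw [← hz]; simp
    have h2 : α = 0 := Algebra.norm_eq_zero_iff.mp h1
    have h3 : (α : ℂ) = 0 := by rw [h2]; rfl
    rw [hα, div_eq_zero_iff] at h3
    rcases h3 with h3 | h3
    · exact h3
    · exact absurd h3 hn0
  · right
    have h1 : (1 : ℝ) ≤ ‖(algebraMap ℚ ℂ (Algebra.norm ℚ α))‖ := by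
      rw [← hz]
      have h2 : (algebraMap ℚ ℂ) ((algebraMap ℤ ℚ) z) = ((z : ℝ) : ℂ) := by
        simp
      rw [h2, Complex.norm_real, Real.norm_eq_abs]
      have h3 : (1 : ℤ) ≤ |z| := Int.one_le_abs hz0
      exact_mod_cast h3
    have h2 : ‖(α : ℂ)‖ = 1 := le_antisymm hαle (h1.trans hle)
    rw [hα, norm_div, Complex.norm_natCast, div_eq_one_iff_eq (by exact_mod_cast hn.ne')] at h2
    exact h2

theorem zero_or_norm_eq {G : Type*} [Group G] [Finite G] {V : Type*} [AddCommGroup V]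
    [Module ℂ V] [FiniteDimensional ℂ V] (ρ : Representation ℂ G V) [ρ.IsIrreducible] (g : G)
    (hcop : Nat.Coprime (Module.finrank ℂ V) (Subgroup.centralizer ({g} : Set G)).index) :
    ρ.character g = 0 ∨ ‖ρ.character g‖ = (Module.finrank ℂ V : ℝ) := by
  obtain ⟨k, m, hk, hgk, hm, hformula⟩ := rep_char_formula ρ g
  have hζ := (Complex.isPrimitiveRoot_exp k hk.ne').pow_eq_one
  generalize Complex.exp (2 * Real.pi * Complex.I / k) = ζ at hζ hformula
  have h1 := hformula 1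
  simp only [pow_one, mul_one] at h1
  have hne := finrank_ne_zero_of_irr ρ
  have hn : 0 < Module.finrank ℂ V := by
    have : Module.finrank ℂ V ≠ 0 := by exact_mod_cast hne
    omega
  have hbez := Int.gcd_eq_gcd_ab (Module.finrank ℂ V : ℤ)
    ((Subgroup.centralizer ({g} : Set G)).index : ℤ)
  have hgcd : Int.gcd (Module.finrank ℂ V : ℤ)
      ((Subgroup.centralizer ({g} : Set G)).index : ℤ) = 1 := by
    rw [Int.gcd_natCast_natCast]
    exact hcop
  rw [hgcd] at hbez
  set a := Int.gcdA (Module.finrank ℂ V : ℤ) ((Subgroup.centralizer ({g} : Set G)).index : ℤ)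
  set b := Int.gcdB (Module.finrank ℂ V : ℤ) ((Subgroup.centralizer ({g} : Set G)).index : ℤ)
  have hbez' : (1 : ℂ) = (Module.finrank ℂ V : ℂ) * (a : ℂ) +
      ((Subgroup.centralizer ({g} : Set G)).index : ℂ) * (b : ℂ) := by
    exact_mod_cast hbez
  have hint : IsIntegral ℤ (ρ.character g / (Module.finrank ℂ V : ℂ)) := by
    have h2 : ρ.character g / (Module.finrank ℂ V : ℂ) = (a : ℂ) * ρ.character g +
        (b : ℂ) * (((Subgroup.centralizer ({g} : Set G)).index : ℂ) * ρ.character g /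
          (Module.finrank ℂ V : ℂ)) := by
      have h3 : ρ.character g / (Module.finrank ℂ V : ℂ) =
          1 * (ρ.character g / (Module.finrank ℂ V : ℂ)) := (one_mul _).symm
      rw [h3, hbez']
      field_simp
    rw [h2]
    apply IsIntegral.add
    · exact (isIntegral_algebraMap (R := ℤ) (A := ℂ) (x := a)).mul (rep_char_isIntegral ρ g)
    · exact (isIntegral_algebraMap (R := ℤ) (A := ℂ) (x := b)).mul (class_sum_integral ρ g)
  rw [h1] at hint ⊢
  exact norm_avg_roots k hk ζ hζ _ hn m hm hint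

end Cfsg.Agent.Lib.Helper3.CharGal
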