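import Mathlib
import Cfsg.Prelude.Def_Characters
import Cfsg.Agent.Lib.Helper3.Char

set_option autoImplicit false

namespace Cfsg.Agent.Lib.Helper3.CharGalois

open Finset
open scoped IntermediateField
open Cfsg.Agent.Lib.Helper3.Char

noncomputable def zeta (N : ℕ) : ℂ := Complex.exp (2 * Real.pi * Complex.I / N)

theorem zeta_eq (N : ℕ) : zeta N = Complex.exp (2 * Real.pi * Complex.I / N) := rfl

theorem zeta_prim (N : ℕ) (hN : N ≠ 0) : IsPrimitiveRoot (zeta N) N :=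
  Complex.isPrimitiveRoot_exp N hN

theorem zeta_integral (N : ℕ) (hN : N ≠ 0) : IsIntegral ℚ (zeta N) := by
  refine ⟨Polynomial.X ^ N - 1, Polynomial.monic_X_pow_sub_C 1 hN, ?_⟩
  simp [(zeta_prim N hN).pow_eq_one]

theorem gen_prim (N : ℕ) (hN : N ≠ 0) :
    IsPrimitiveRoot (IntermediateField.AdjoinSimple.gen ℚ (zeta N)) N := by
  apply IsPrimitiveRoot.of_map_of_injective (f := algebraMap ℚ⟮zeta N⟯ ℂ) _
    (algebraMap ℚ⟮zeta N⟯ ℂ).injective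
  rw [IntermediateField.AdjoinSimple.algebraMap_gen]
  exact zeta_prim N hN

theorem emb_gen (N : ℕ) (hN : N ≠ 0) (σ : ℚ⟮zeta N⟯ →ₐ[ℚ] ℂ) :
    ∃ e : ℕ, e.Coprime N ∧ σ (IntermediateField.AdjoinSimple.gen ℚ (zeta N)) = zeta N ^ e := by
  have hζ := zeta_prim N hN
  have hσ : IsPrimitiveRoot (σ (IntermediateField.AdjoinSimple.gen ℚ (zeta N))) N :=
    (gen_prim N hN).map_of_injective σ.toRingHom.injective
  have : NeZero N := ⟨hN⟩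
  obtain ⟨i, -, hi⟩ := hζ.eq_pow_of_pow_eq_one hσ.pow_eq_one
  refine ⟨i, ?_, hi.symm⟩
  rw [← hi] at hσ
  exact (hζ.pow_iff_coprime (Nat.pos_of_ne_zero hN) i).mp hσ

theorem emb_exists (N : ℕ) (hN : N ≠ 0) (m : ℕ) (hm : m.Coprime N) :
    ∃ σ : ℚ⟮zeta N⟯ →ₐ[ℚ] ℂ,
      σ (IntermediateField.AdjoinSimple.gen ℚ (zeta N)) = zeta N ^ m := by
  have hζ := zeta_prim N hN
  have hint := zeta_integral N hN
  have hroot : zeta N ^ m ∈ (minpoly ℚ (zeta N)).aroots ℂ := by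
    rw [Polynomial.mem_aroots]
    refine ⟨minpoly.ne_zero hint, ?_⟩
    rw [← Polynomial.cyclotomic_eq_minpoly_rat hζ (Nat.pos_of_ne_zero hN)]
    have h1 : IsPrimitiveRoot (zeta N ^ m) N := hζ.pow_of_coprime m hm
    have h2 := (Polynomial.isRoot_cyclotomic_iff_charZero (R := ℂ)
      (Nat.pos_of_ne_zero hN)).mpr h1
    rw [Polynomial.aeval_def, Polynomial.eval₂_eq_eval_map, Polynomial.map_cyclotomic]
    exact h2
  refine ⟨(IntermediateField.algHomAdjoinIntegralEquiv ℚ hint).symm ⟨_, hroot⟩, ?_⟩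
  exact IntermediateField.algHomAdjoinIntegralEquiv_symm_apply_gen ℚ hint ⟨_, hroot⟩

theorem char_lift {G : Type*} [Group G] [Finite G] {V : Type*} [AddCommGroup V] [Module ℂ V]
    [FiniteDimensional ℂ V] (ρ : Representation ℂ G V) (g : G) :
    ∃ a : ℚ⟮zeta (Nat.card G)⟯, (a : ℂ) = ρ.character g ∧ IsIntegral ℤ a ∧
      ∀ (σ : ℚ⟮zeta (Nat.card G)⟯ →ₐ[ℚ] ℂ) (e : ℕ),
        σ (IntermediateField.AdjoinSimple.gen ℚ (zeta (Nat.card G))) = zeta (Nat.card G) ^ e →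
        σ a = ρ.character (g ^ e) := by
  have hN : 0 < Nat.card G := Nat.card_pos
  have hf : (ρ g) ^ (Nat.card G) = 1 := by rw [← map_pow, pow_card_eq_one', map_one]
  obtain ⟨m, -, hformula⟩ := trace_pow_of_pow_eq_one (ρ g) (Nat.card G) hN hf
  rw [← zeta_eq] at hformula
  have hζL : ((IntermediateField.AdjoinSimple.gen ℚ (zeta (Nat.card G)) :
      ℚ⟮zeta (Nat.card G)⟯) : ℂ) = zeta (Nat.card G) :=
    IntermediateField.AdjoinSimple.coe_gen ℚ _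
  have hint : IsIntegral ℤ (IntermediateField.AdjoinSimple.gen ℚ (zeta (Nat.card G))) := by
    apply IsIntegral.of_pow hN
    rw [(gen_prim (Nat.card G) hN.ne').pow_eq_one]
    exact isIntegral_one
  refine ⟨∑ j ∈ range (Nat.card G), (m j : ℚ⟮zeta (Nat.card G)⟯) *
    (IntermediateField.AdjoinSimple.gen ℚ (zeta (Nat.card G))) ^ j, ?_, ?_, ?_⟩
  · have h1 := hformula 1
    rw [pow_one] at h1
    change ρ.character g = _ at h1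
    rw [h1]
    push_cast
    rw [hζL]
    refine Finset.sum_congr rfl (fun j _ => ?_)
    rw [mul_one]
  · refine IsIntegral.sum _ (fun j _ => ?_)
    have h2 : IsIntegral ℤ ((m j : ℚ⟮zeta (Nat.card G)⟯)) := by
      have h3 := isIntegral_algebraMap (R := ℤ) (A := ℚ⟮zeta (Nat.card G)⟯) (x := (m j : ℤ))
      simpa using h3
    exact h2.mul (hint.pow j)
  · intro σ e he
    have h1 := hformula e
    rw [← map_pow] at h1
    change ρ.character (g ^ e) = _ at h1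
    rw [h1, map_sum]
    refine Finset.sum_congr rfl (fun j _ => ?_)
    rw [map_mul, map_pow, map_natCast, he, ← pow_mul, mul_comm e j]

theorem cyc_fd (N : ℕ) (hN : N ≠ 0) : FiniteDimensional ℚ ℚ⟮zeta N⟯ :=
  IntermediateField.adjoin.finiteDimensional (zeta_integral N hN)

theorem prod_norm_ge_one (N : ℕ) [FiniteDimensional ℚ ℚ⟮zeta N⟯] (a : ℚ⟮zeta N⟯)
    (ha : IsIntegral ℤ a) (ha0 : a ≠ 0) :
    (1 : ℝ) ≤ ∏ σ : ℚ⟮zeta N⟯ →ₐ[ℚ] ℂ, ‖σ a‖ := by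
  have hNint : IsIntegral ℤ (Algebra.norm ℚ a) := Algebra.isIntegral_norm ℚ ha
  obtain ⟨z, hz⟩ := IsIntegrallyClosed.isIntegral_iff.mp hNint
  have hprod := Algebra.norm_eq_prod_embeddings ℚ ℂ a
  have hz0 : z ≠ 0 := by
    intro h
    rw [h] at hz
    have h1 : Algebra.norm ℚ a = 0 := by rw [← hz]; simp
    exact ha0 (Algebra.norm_eq_zero_iff.mp h1)
  rw [← norm_prod, ← hprod, ← hz]
  have h2 : (algebraMap ℚ ℂ) ((algebraMap ℤ ℚ) z) = ((z : ℝ) : ℂ) := by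
    simp
  rw [h2, Complex.norm_real, Real.norm_eq_abs]
  have h3 : (1 : ℤ) ≤ |z| := Int.one_le_abs hz0
  exact_mod_cast h3

theorem sum_sq_ge_card (N : ℕ) [FiniteDimensional ℚ ℚ⟮zeta N⟯] (a : ℚ⟮zeta N⟯)
    (ha : IsIntegral ℤ a) (ha0 : a ≠ 0) :
    (Fintype.card (ℚ⟮zeta N⟯ →ₐ[ℚ] ℂ) : ℝ) ≤ ∑ σ : ℚ⟮zeta N⟯ →ₐ[ℚ] ℂ, ‖σ a‖ ^ 2 := by
  have hpos : ∀ σ : ℚ⟮zeta N⟯ →ₐ[ℚ] ℂ, 0 < ‖σ a‖ ^ 2 := by
    intro σ
    have h1 : σ a ≠ 0 := by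
      intro h
      apply ha0
      have h2 : σ a = σ 0 := by rw [h, map_zero]
      exact σ.toRingHom.injective h2
    positivity
  have h1 : ∀ σ : ℚ⟮zeta N⟯ →ₐ[ℚ] ℂ, 1 + Real.log (‖σ a‖ ^ 2) ≤ ‖σ a‖ ^ 2 := by
    intro σ
    have := Real.log_le_sub_one_of_pos (hpos σ)
    linarith
  have h2 : (0 : ℝ) ≤ ∑ σ : ℚ⟮zeta N⟯ →ₐ[ℚ] ℂ, Real.log (‖σ a‖ ^ 2) := by
    rw [← Real.log_prod (fun σ _ => (hpos σ).ne')]
    apply Real.log_nonneg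
    rw [Finset.prod_pow]
    have h3 := prod_norm_ge_one N a ha ha0
    nlinarith
  calc (Fintype.card (ℚ⟮zeta N⟯ →ₐ[ℚ] ℂ) : ℝ)
      = ∑ _σ : ℚ⟮zeta N⟯ →ₐ[ℚ] ℂ, (1 : ℝ) := by simp
    _ ≤ ∑ σ : ℚ⟮zeta N⟯ →ₐ[ℚ] ℂ, (1 + Real.log (‖σ a‖ ^ 2)) := by
        rw [Finset.sum_add_distrib]
        linarith
    _ ≤ ∑ σ : ℚ⟮zeta N⟯ →ₐ[ℚ] ℂ, ‖σ a‖ ^ 2 := Finset.sum_le_sum (fun σ _ => h1 σ)

theorem rational_of_fixed (N : ℕ) [FiniteDimensional ℚ ℚ⟮zeta N⟯] (a : ℚ⟮zeta N⟯)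
    (hfix : ∀ σ : ℚ⟮zeta N⟯ →ₐ[ℚ] ℂ, σ a = (a : ℂ)) : ∃ q : ℚ, (a : ℂ) = (q : ℂ) := by
  have htr := trace_eq_sum_embeddings (K := ℚ) (L := ℚ⟮zeta N⟯) ℂ (x := a)
  rw [Finset.sum_congr rfl (fun σ _ => hfix σ), Finset.sum_const, Finset.card_univ,
    nsmul_eq_mul] at htr
  have hne : Nonempty (ℚ⟮zeta N⟯ →ₐ[ℚ] ℂ) := ⟨IntermediateField.val _⟩
  have hcard : (Fintype.card (ℚ⟮zeta N⟯ →ₐ[ℚ] ℂ) : ℂ) ≠ 0 := by
    exact_mod_cast Fintype.card_ne_zero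
  refine ⟨Algebra.trace ℚ ℚ⟮zeta N⟯ a / (Fintype.card (ℚ⟮zeta N⟯ →ₐ[ℚ] ℂ) : ℚ), ?_⟩
  push_cast
  rw [eq_div_iff hcard, mul_comm, ← htr]
  rfl

end Cfsg.Agent.Lib.Helper3.CharGalois
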