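import Mathlib
import Cfsg.Prelude.Def_Characters
import Cfsg.Agent.Lib.Helper3.CharGalois
import Cfsg.Agent.Lib.Helper3.CharInt
import Cfsg.Agent.Lib.Helper3.CharArith
import Cfsg.Agent.Lib.Helper3.CharNormal

set_option autoImplicit false

namespace Cfsg.Agent.Lib.Helper3.CharGalConj

open scoped ComplexConjugate IntermediateField
open Cfsg.Agent.Lib.Helper3.Char Cfsg.Agent.Lib.Helper3.CharCore Cfsg.Agent.Lib.Helper3.CharInt
  Cfsg.Agent.Lib.Helper3.CharArith Cfsg.Agent.Lib.Helper3.CharGalois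
  Cfsg.Agent.Lib.Helper3.CharNormal

theorem conv_rep {G : Type*} [Group G] [Fintype G] {V W : Type*} [AddCommGroup V] [Module ℂ V]
    [FiniteDimensional ℂ V] [AddCommGroup W] [Module ℂ W] [FiniteDimensional ℂ W]
    (ρ : Representation ℂ G V) (ρ' : Representation ℂ G W) [hirr : ρ'.IsIrreducible] (h : G) :
    ∑ a : G, ρ.character a⁻¹ * ρ'.character (a * h) =
      (∑ a : G, ρ.character a⁻¹ * ρ'.character a) / (Module.finrank ℂ W : ℂ) *
        ρ'.character h := by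
  have hs := schur_class_sum (fun a => ρ.character a⁻¹) (by
    intro g x
    have : (x * g * x⁻¹)⁻¹ = x * g⁻¹ * x⁻¹ := by group
    rw [this]
    exact Representation.char_conj ρ g⁻¹ x) ρ'
  have h4 := congrArg (fun T : Module.End ℂ W => LinearMap.trace ℂ W (T * ρ' h)) hs
  rw [← Module.End.one_eq_id] at h4
  simp only [Finset.sum_mul, map_sum, smul_mul_assoc, map_smul, smul_eq_mul, one_mul,
    ← map_mul] at h4
  exact h4

theorem conv_irr {G : Type*} [Group G] [Fintype G] {χ χ' : G → ℂ}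
    (hχ : Cfsg.IsIrrCharacter G χ) (hχ' : Cfsg.IsIrrCharacter G χ') (h : G) :
    ∑ a : G, χ a⁻¹ * χ' (a * h) = if χ = χ' then (Nat.card G : ℂ) / χ 1 * χ h else 0 := by
  classical
  have hcard : (Nat.card G : ℂ) ≠ 0 := by exact_mod_cast Nat.card_pos.ne'
  have h0 := irr_orthonormal hχ' hχ
  rw [classInner_eq _ (isCharacter_of_irr hχ)] at h0
  have h1 : ∑ a : G, χ a⁻¹ * χ' a = if χ' = χ then (Nat.card G : ℂ) else 0 := by
    have h2 : ∑ a : G, χ' a * χ a⁻¹ = (Nat.card G : ℂ) * (if χ' = χ then 1 else 0) := by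
      rw [← h0]
      field_simp
    have h3 : ∑ a : G, χ a⁻¹ * χ' a = ∑ a : G, χ' a * χ a⁻¹ :=
      Finset.sum_congr rfl (fun a _ => mul_comm _ _)
    rw [h3, h2]
    split_ifs <;> simp
  obtain ⟨n, ρ, -, rfl⟩ := hχ
  obtain ⟨n', ρ', hirr', rfl⟩ := hχ'
  have : ρ'.IsIrreducible := hirr'
  rw [conv_rep ρ ρ' h, h1]
  by_cases he : ρ.character = ρ'.character
  · rw [if_pos he.symm, if_pos he, he, Representation.char_one]
  · rw [if_neg (fun h => he h.symm), if_neg he, zero_div, zero_mul]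

theorem pow_classFun {G : Type*} [Group G] (m : ℕ) {φ : G → ℂ}
    (hφ : Cfsg.IsClassFunction G φ) : Cfsg.IsClassFunction G (fun g => φ (g ^ m)) := by
  intro g x
  change φ ((x * g * x⁻¹) ^ m) = φ (g ^ m)
  rw [conj_pow]
  exact hφ _ _

theorem pow_inner {G : Type*} [Group G] [Fintype G] (m : ℕ) (hm : m.Coprime (Nat.card G))
    (φ₁ φ₂ : G → ℂ) :
    Cfsg.classInner (fun g => φ₁ (g ^ m)) (fun g => φ₂ (g ^ m)) = Cfsg.classInner φ₁ φ₂ := by
  unfold Cfsg.classInner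
  congr 1
  exact Equiv.sum_comp (powCoprime hm.symm) (fun g => φ₁ g * conj (φ₂ g))

theorem pow_conv {G : Type*} [Group G] [Fintype G] (m : ℕ) (hm : m.Coprime (Nat.card G))
    {φ : G → ℂ} (hφ : Cfsg.IsIrrCharacter G φ) (h : G) :
    ∑ a : G, φ (a⁻¹ ^ m) * φ ((a * h) ^ m) = (Nat.card G : ℂ) / φ 1 * φ (h ^ m) := by
  have hN : Nat.card G ≠ 0 := Nat.card_pos.ne'
  obtain ⟨σ, hσ⟩ := emb_exists (Nat.card G) hN m hm
  have h0 := conv_irr hφ hφ h
  rw [if_pos rfl] at h0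
  obtain ⟨n, ρ, hirr, rfl⟩ := hφ
  choose a ha1 ha2 ha3 using fun g : G => char_lift ρ g
  have hL : ∑ x : G, a x⁻¹ * a (x * h) =
      ((Nat.card G : ℚ⟮zeta (Nat.card G)⟯) /
        (Module.finrank ℂ (Fin n → ℂ) : ℚ⟮zeta (Nat.card G)⟯)) * a h := by
    apply Subtype.ext
    push_cast
    simp only [ha1]
    rw [h0, Representation.char_one]
  have h1 := congrArg σ hL
  rw [map_sum, map_mul, map_div₀, map_natCast, map_natCast] at h1
  simp only [map_mul, ha3 _ σ m hσ] at h1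
  rw [Representation.char_one]
  exact h1

theorem pow_coeff {G : Type*} [Group G] [Fintype G] [Fintype (Cfsg.IrrCharacter G)] (m : ℕ)
    (hm : m.Coprime (Nat.card G)) {φ : G → ℂ} (hφ : Cfsg.IsIrrCharacter G φ)
    (χ : Cfsg.IrrCharacter G) :
    Cfsg.classInner (fun g => φ (g ^ m)) χ = 0 ∨
      Cfsg.classInner (fun g => φ (g ^ m)) χ = (χ : G → ℂ) 1 / φ 1 := by
  classical
  have hcard : (Nat.card G : ℂ) ≠ 0 := by exact_mod_cast Nat.card_pos.ne'
  have hφ1 := irr_one_ne_zero hφ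
  have hcf := pow_classFun m (char_classFun (isCharacter_of_irr hφ))
  have hexp := class_fun_expand _ hcf
  set c : Cfsg.IrrCharacter G → ℂ := fun η => Cfsg.classInner (fun g => φ (g ^ m)) η with hc
  have hf : ∀ g : G, φ (g ^ m) = ∑ η : Cfsg.IrrCharacter G, c η * (η : G → ℂ) g := by
    intro g
    have := congrFun hexp g
    simp only [Finset.sum_apply, Pi.smul_apply, smul_eq_mul] at this
    exact this
  have hconv := pow_conv m hm hφ
  have hkey : ∀ h : G, ∑ η : Cfsg.IrrCharacter G,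
      (c η * c η * ((Nat.card G : ℂ) / (η : G → ℂ) 1)) * (η : G → ℂ) h =
      ∑ η : Cfsg.IrrCharacter G, ((Nat.card G : ℂ) / φ 1 * c η) * (η : G → ℂ) h := by
    intro h
    have h1 := hconv h
    rw [hf h, Finset.mul_sum] at h1
    have h2 : ∑ a : G, φ (a⁻¹ ^ m) * φ ((a * h) ^ m) =
        ∑ η : Cfsg.IrrCharacter G, (c η * c η * ((Nat.card G : ℂ) / (η : G → ℂ) 1)) *
          (η : G → ℂ) h := by
      have h3 : ∀ a : G, φ (a⁻¹ ^ m) * φ ((a * h) ^ m) =
          ∑ η : Cfsg.IrrCharacter G, ∑ η' : Cfsg.IrrCharacter G,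
            c η * c η' * ((η : G → ℂ) a⁻¹ * (η' : G → ℂ) (a * h)) := by
        intro a
        rw [hf a⁻¹, hf (a * h), Finset.sum_mul_sum]
        refine Finset.sum_congr rfl (fun η _ => Finset.sum_congr rfl (fun η' _ => ?_))
        ring
      rw [Finset.sum_congr rfl (fun a _ => h3 a), Finset.sum_comm]
      refine Finset.sum_congr rfl (fun η _ => ?_)
      rw [Finset.sum_comm]
      have h4 : ∀ η' : Cfsg.IrrCharacter G,
          ∑ a : G, c η * c η' * ((η : G → ℂ) a⁻¹ * (η' : G → ℂ) (a * h)) =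
            if η = η' then c η * c η * ((Nat.card G : ℂ) / (η : G → ℂ) 1) * (η : G → ℂ) h
            else 0 := by
        intro η'
        rw [← Finset.mul_sum, conv_irr η.2 η'.2 h]
        by_cases he : η = η'
        · subst he
          rw [if_pos rfl, if_pos rfl]
          ring
        · rw [if_neg he, if_neg (fun h => he (Subtype.ext h)), mul_zero]
      rw [Finset.sum_congr rfl (fun η' _ => h4 η'), Finset.sum_ite_eq]
      simp
    rw [← h2, h1]
    refine Finset.sum_congr rfl (fun η _ => ?_)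
    ring
  have hlin : ∑ η : Cfsg.IrrCharacter G,
      (c η * c η * ((Nat.card G : ℂ) / (η : G → ℂ) 1) - (Nat.card G : ℂ) / φ 1 * c η) •
        (η : G → ℂ) = 0 := by
    funext h
    simp only [Finset.sum_apply, Pi.smul_apply, smul_eq_mul, Pi.zero_apply, sub_mul,
      Finset.sum_sub_distrib]
    rw [hkey h, sub_self]
  have hzero := (Fintype.linearIndependent_iff.mp (irr_linearIndependent G)) _ hlin χ
  have hχ1 := irr_one_ne_zero χ.2
  by_cases h0 : c χ = 0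
  · left
    exact h0
  · right
    change c χ = _
    have h5 : c χ * ((Nat.card G : ℂ) * (c χ / (χ : G → ℂ) 1 - 1 / φ 1)) = 0 := by
      rw [← hzero]
      ring
    rcases mul_eq_zero.mp h5 with h6 | h6
    · exact absurd h6 h0
    · rcases mul_eq_zero.mp h6 with h7 | h7
      · exact absurd h7 hcard
      · field_simp at h7
        rw [eq_div_iff hφ1]
        linear_combination h7

theorem pow_isIrr {G : Type*} [Group G] [Finite G] (m : ℕ) (hm : m.Coprime (Nat.card G))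
    {ψ : G → ℂ} (hψ : Cfsg.IsIrrCharacter G ψ) : Cfsg.IsIrrCharacter G (fun g => ψ (g ^ m)) := by
  classical
  have _i : Fintype G := Fintype.ofFinite G
  have _j : Fintype (Cfsg.IrrCharacter G) := Fintype.ofFinite _
  let T : (G → ℂ) → (G → ℂ) := fun φ g => φ (g ^ m)
  let C : Cfsg.IrrCharacter G → Cfsg.IrrCharacter G → ℂ := fun φ χ => Cfsg.classInner (T φ) χ
  have hdich : ∀ φ χ : Cfsg.IrrCharacter G,
      C φ χ = 0 ∨ C φ χ = (χ : G → ℂ) 1 / (φ : G → ℂ) 1 := fun φ χ => pow_coeff m hm φ.2 χ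
  choose d hd0 hd using fun χ : Cfsg.IrrCharacter G => irr_one_pos χ.2
  let S : Cfsg.IrrCharacter G → Finset (Cfsg.IrrCharacter G) :=
    fun φ => Finset.univ.filter (fun χ => C φ χ ≠ 0)
  have hpars : ∀ φ₁ φ₂ : Cfsg.IrrCharacter G, Cfsg.classInner (T φ₁) (T φ₂) =
      ∑ χ : Cfsg.IrrCharacter G, C φ₁ χ * conj (C φ₂ χ) := by
    intro φ₁ φ₂
    rw [parseval _ _ (pow_classFun m (char_classFun (isCharacter_of_irr φ₁.2)))]
    refine Finset.sum_congr rfl (fun χ _ => ?_)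
    rw [classInner_conj_symm (T φ₂) χ]
  have hTinner : ∀ φ₁ φ₂ : Cfsg.IrrCharacter G,
      Cfsg.classInner (T φ₁) (T φ₂) = if φ₁ = φ₂ then 1 else 0 := by
    intro φ₁ φ₂
    rw [pow_inner m hm, irr_orthonormal φ₁.2 φ₂.2]
    by_cases h : φ₁ = φ₂
    · rw [if_pos h, if_pos (congrArg Subtype.val h)]
    · rw [if_neg h, if_neg (fun h' => h (Subtype.ext h'))]
  have hreal : ∀ φ χ : Cfsg.IrrCharacter G,
      ∃ r : ℝ, 0 ≤ r ∧ C φ χ = (r : ℂ) ∧ (C φ χ ≠ 0 → 0 < r) := by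
    intro φ χ
    rcases hdich φ χ with h | h
    · exact ⟨0, le_refl _, by rw [h]; simp, fun h' => absurd h h'⟩
    · have h1 := hd0 χ
      have h2 := hd0 φ
      refine ⟨(d χ : ℝ) / (d φ : ℝ), by positivity, ?_, fun _ => by positivity⟩
      rw [h, hd, hd]
      push_cast
      rfl
  choose r hr0 hr hrpos using hreal
  have hdisj : ∀ φ₁ φ₂ : Cfsg.IrrCharacter G, φ₁ ≠ φ₂ → Disjoint (S φ₁) (S φ₂) := by
    intro φ₁ φ₂ hne
    rw [Finset.disjoint_left]
    intro χ h1 h2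
    rw [Finset.mem_filter] at h1 h2
    have h3 := hpars φ₁ φ₂
    rw [hTinner, if_neg hne] at h3
    have h4 : ∑ χ : Cfsg.IrrCharacter G, r φ₁ χ * r φ₂ χ = 0 := by
      have h8 : ∑ χ : Cfsg.IrrCharacter G, C φ₁ χ * conj (C φ₂ χ) =
          ((∑ χ : Cfsg.IrrCharacter G, r φ₁ χ * r φ₂ χ : ℝ) : ℂ) := by
        push_cast
        refine Finset.sum_congr rfl (fun χ _ => ?_)
        rw [hr φ₁ χ, hr φ₂ χ, Complex.conj_ofReal]
      rw [h8] at h3
      exact_mod_cast h3.symm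
    have h5 := (Finset.sum_eq_zero_iff_of_nonneg
      (fun χ _ => mul_nonneg (hr0 φ₁ χ) (hr0 φ₂ χ))).mp h4 χ (Finset.mem_univ _)
    have h6 := hrpos φ₁ χ h1.2
    have h7 := hrpos φ₂ χ h2.2
    have h9 : 0 < r φ₁ χ * r φ₂ χ := mul_pos h6 h7
    linarith
  have hne : ∀ φ : Cfsg.IrrCharacter G, (S φ).Nonempty := by
    intro φ
    by_contra hemp
    rw [Finset.not_nonempty_iff_eq_empty] at hemp
    have h3 := hpars φ φ
    rw [hTinner, if_pos rfl] at h3
    have h4 : ∀ χ : Cfsg.IrrCharacter G, C φ χ = 0 := by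
      intro χ
      by_contra h
      have h5 : χ ∈ S φ := Finset.mem_filter.mpr ⟨Finset.mem_univ _, h⟩
      rw [hemp] at h5
      exact absurd h5 (Finset.notMem_empty _)
    rw [Finset.sum_eq_zero (fun χ _ => by rw [h4 χ, zero_mul])] at h3
    exact one_ne_zero h3
  have hcard_le : ∑ φ : Cfsg.IrrCharacter G, (S φ).card ≤ Fintype.card (Cfsg.IrrCharacter G) := by
    rw [← Finset.card_biUnion (fun φ₁ _ φ₂ _ h => hdisj φ₁ φ₂ h)]
    exact Finset.card_le_univ _
  have hone : ∀ φ : Cfsg.IrrCharacter G, (S φ).card = 1 := by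
    by_contra hcon
    push Not at hcon
    obtain ⟨φ₀, hφ₀⟩ := hcon
    have h1 : 1 < (S φ₀).card := by
      have := Finset.card_pos.mpr (hne φ₀)
      omega
    have h2 : ∑ _φ : Cfsg.IrrCharacter G, 1 < ∑ φ : Cfsg.IrrCharacter G, (S φ).card :=
      Finset.sum_lt_sum (fun φ _ => Finset.card_pos.mpr (hne φ)) ⟨φ₀, Finset.mem_univ _, h1⟩
    rw [Finset.sum_const, Finset.card_univ, smul_eq_mul, mul_one] at h2
    omega
  obtain ⟨χ₀, hχ₀⟩ := Finset.card_eq_one.mp (hone ⟨ψ, hψ⟩)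
  have hC : ∀ χ : Cfsg.IrrCharacter G, χ ≠ χ₀ → C ⟨ψ, hψ⟩ χ = 0 := by
    intro χ hχ
    by_contra h
    have h5 : χ ∈ S ⟨ψ, hψ⟩ := Finset.mem_filter.mpr ⟨Finset.mem_univ _, h⟩
    rw [hχ₀, Finset.mem_singleton] at h5
    exact hχ h5
  have h3 := hpars ⟨ψ, hψ⟩ ⟨ψ, hψ⟩
  rw [hTinner, if_pos rfl, Finset.sum_eq_single χ₀ (fun χ _ hχ => by rw [hC χ hχ, zero_mul])
    (fun h => absurd (Finset.mem_univ _) h)] at h3
  have hr1 : r ⟨ψ, hψ⟩ χ₀ = 1 := by
    rw [hr, Complex.conj_ofReal] at h3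
    have h4 : r ⟨ψ, hψ⟩ χ₀ * r ⟨ψ, hψ⟩ χ₀ = 1 := by exact_mod_cast h3.symm
    nlinarith [hr0 ⟨ψ, hψ⟩ χ₀]
  have hexp := class_fun_expand _ (pow_classFun m (char_classFun (isCharacter_of_irr hψ)))
  have hexp2 : (fun g => ψ (g ^ m)) = (χ₀ : G → ℂ) := by
    refine hexp.trans ?_
    rw [Finset.sum_eq_single χ₀]
    · have h5 : Cfsg.classInner (fun g => ψ (g ^ m)) (χ₀ : G → ℂ) = 1 := by
        have h6 : C ⟨ψ, hψ⟩ χ₀ = (r ⟨ψ, hψ⟩ χ₀ : ℂ) := hr _ _
        rw [hr1] at h6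
        exact_mod_cast h6
      rw [h5, one_smul]
    · intro χ _ hχ
      have h5 : Cfsg.classInner (fun g => ψ (g ^ m)) (χ : G → ℂ) = 0 := hC χ hχ
      rw [h5, zero_smul]
    · intro h
      exact absurd (Finset.mem_univ _) h
  rw [hexp2]
  exact χ₀.2

theorem pow_isCharacter {G : Type*} [Group G] [Finite G] (m : ℕ) (hm : m.Coprime (Nat.card G))
    {χ : G → ℂ} (hχ : Cfsg.IsCharacter G χ) : Cfsg.IsCharacter G (fun g => χ (g ^ m)) := by
  have h1 : ∀ l : List (G → ℂ), (fun g => l.sum (g ^ m)) =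
      (l.map (fun φ : G → ℂ => fun g => φ (g ^ m))).sum := by
    intro l
    induction l with
    | nil => rfl
    | cons a l ih =>
      rw [List.map_cons, List.sum_cons, List.sum_cons, ← ih]
      rfl
  obtain ⟨l, hl, rfl⟩ := isCharacter_decomp hχ
  rw [h1]
  apply isCharacter_list_sum
  intro ψ hψ
  obtain ⟨φ, hφ, rfl⟩ := List.mem_map.mp hψ
  exact isCharacter_of_irr (pow_isIrr m hm (hl φ hφ))

end Cfsg.Agent.Lib.Helper3.CharGalConj
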