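import Mathlib
import Cfsg.Prelude.Def_Characters
import Cfsg.Agent.Lib.Helper3.Char
import Cfsg.Agent.Lib.Helper3.CharCore
import Cfsg.Agent.Lib.Helper3.CharInd
import Cfsg.Agent.Lib.Helper3.CharCliff

open Cfsg
open Cfsg.Agent.Lib.Helper3.Char Cfsg.Agent.Lib.Helper3.CharCore Cfsg.Agent.Lib.Helper3.CharInd
open Cfsg.Agent.Lib.Helper3.CharCliff
open scoped ComplexConjugate

namespace Cfsg.Agent.Lib.Helper3.CharTrans

theorem ind_trans {G : Type*} [Group G] [Fintype G] (T : Subgroup G) [Fintype T]
    (U : Subgroup T) (lam : U → ℂ) :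
    Cfsg.indFun T (Cfsg.indFun U lam) = Cfsg.indFun (U.map T.subtype)
      (lam ∘ (U.equivMapOfInjective T.subtype T.subtype_injective).symm) := by
  classical
  have _u : Fintype U := Fintype.ofFinite _
  have _u' : Fintype (U.map T.subtype) := Fintype.ofFinite _
  rw [← sub_eq_zero]
  apply class_fun_eq_zero_of_inner
  · intro g h
    rw [Pi.sub_apply, Pi.sub_apply, indFun_classFun T _ g h, indFun_classFun _ _ g h]
  · intro χ hχ
    have hcf := char_classFun (isCharacter_of_irr hχ)
    have hcfT : Cfsg.IsClassFunction T (fun t : T => χ t) := fun g h => hcf (g : G) (h : G)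
    rw [classInner_sub_left, frobenius T _ χ hcf, frobenius U lam _ hcfT,
      frobenius (U.map T.subtype) _ χ hcf, sub_eq_zero]
    have h1 := classInner_equiv (U.equivMapOfInjective T.subtype T.subtype_injective).symm lam
      (fun u : U => χ ((u : T) : G))
    rw [← h1]
    congr 1
    funext u'
    show χ ((((U.equivMapOfInjective T.subtype T.subtype_injective).symm u' : U) : T) : G) =
      χ (u' : G)
    congr 1
    have h2 := Subgroup.coe_equivMapOfInjective_apply U T.subtype T.subtype_injective
      ((U.equivMapOfInjective T.subtype T.subtype_injective).symm u')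
    rw [MulEquiv.apply_symm_apply] at h2
    exact h2.symm

theorem indFun_top {G : Type*} [Group G] [Fintype G] (χ : G → ℂ)
    (hχ : Cfsg.IsClassFunction G χ) :
    Cfsg.indFun (⊤ : Subgroup G) (fun h : (⊤ : Subgroup G) => χ h) = χ := by
  funext g
  unfold Cfsg.indFun
  have h1 : ∀ x : G, Cfsg.extendByZero (⊤ : Subgroup G) (fun h : (⊤ : Subgroup G) => χ h)
      (x⁻¹ * g * x) = χ g := by
    intro x
    rw [extendByZero_mem _ _ (Subgroup.mem_top _)]
    have h2 := hχ g x⁻¹
    rw [inv_inv] at h2
    exact h2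
  rw [Finset.sum_congr rfl (fun x _ => h1 x), Finset.sum_const, Finset.card_univ, nsmul_eq_mul,
    Subgroup.card_top, ← Nat.card_eq_fintype_card]
  have hG : (Nat.card G : ℂ) ≠ 0 := by exact_mod_cast Nat.card_pos.ne'
  field_simp

theorem map_irr {G : Type*} [Group G] (T : Subgroup G) (U : Subgroup T) {lam : U → ℂ}
    (h : Cfsg.IsIrrCharacter U lam) :
    Cfsg.IsIrrCharacter (U.map T.subtype)
      (lam ∘ (U.equivMapOfInjective T.subtype T.subtype_injective).symm) :=
  comp_isIrr (U.equivMapOfInjective T.subtype T.subtype_injective).symm.toMonoidHom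
    (U.equivMapOfInjective T.subtype T.subtype_injective).symm.surjective h

theorem map_char {G : Type*} [Group G] (T : Subgroup G) (U : Subgroup T) {lam : U → ℂ}
    (h : Cfsg.IsCharacter U lam) :
    Cfsg.IsCharacter (U.map T.subtype)
      (lam ∘ (U.equivMapOfInjective T.subtype T.subtype_injective).symm) :=
  comp_isCharacter (U.equivMapOfInjective T.subtype T.subtype_injective).symm.toMonoidHom h

theorem map_coe {G : Type*} [Group G] (T : Subgroup G) (U : Subgroup T)
    (u' : U.map T.subtype) :
    ((((U.equivMapOfInjective T.subtype T.subtype_injective).symm u' : U) : T) : G) = u' := by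
  have h2 := Subgroup.coe_equivMapOfInjective_apply U T.subtype T.subtype_injective
    ((U.equivMapOfInjective T.subtype T.subtype_injective).symm u')
  rw [MulEquiv.apply_symm_apply] at h2
  exact h2.symm

theorem mono_trans {G : Type*} [Group G] [Fintype G] (T : Subgroup G) [Fintype T]
    (ψ : T → ℂ)
    (h : ∃ (U : Subgroup T) (lam : U → ℂ), Cfsg.IsCharacter U lam ∧ lam 1 = 1 ∧
      Cfsg.indFun U lam = ψ) :
    ∃ (U : Subgroup G) (lam : U → ℂ), Cfsg.IsCharacter U lam ∧ lam 1 = 1 ∧
      Cfsg.indFun U lam = Cfsg.indFun T ψ := by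
  obtain ⟨U, lam, h1, h2, h3⟩ := h
  refine ⟨U.map T.subtype, lam ∘ (U.equivMapOfInjective T.subtype T.subtype_injective).symm,
    map_char T U h1, ?_, ?_⟩
  · show lam ((U.equivMapOfInjective T.subtype T.subtype_injective).symm 1) = 1
    rw [map_one]
    exact h2
  · rw [← ind_trans, h3]

end Cfsg.Agent.Lib.Helper3.CharTrans
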