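import Mathlib
import Cfsg.Prelude.Def_Characters
import Cfsg.Agent.Lib.Helper3.Char
import Cfsg.Agent.Lib.Helper3.CharCore
import Cfsg.Agent.Lib.Helper3.CharInd
import Cfsg.Agent.Lib.Helper3.CharArith
import Cfsg.Agent.Lib.Helper3.CharNormal
import Cfsg.Agent.Lib.Helper3.CharAb
import Cfsg.Agent.Lib.Helper3.CharProj
import Cfsg.Agent.Lib.Helper3.CharCliff
import Cfsg.Agent.Lib.Helper3.CharLinear
import Cfsg.Agent.Lib.Helper3.CharTrans
import Cfsg.Agent.S0139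
import Cfsg.Agent.S0169
import Cfsg.Agent.S0887

open Cfsg
open Cfsg.Agent.Lib.Helper3.Char Cfsg.Agent.Lib.Helper3.CharCore Cfsg.Agent.Lib.Helper3.CharInd
open Cfsg.Agent.Lib.Helper3.CharArith Cfsg.Agent.Lib.Helper3.CharNormal
open Cfsg.Agent.Lib.Helper3.CharAb Cfsg.Agent.Lib.Helper3.CharProj
open Cfsg.Agent.Lib.Helper3.CharCliff Cfsg.Agent.Lib.Helper3.CharLinear
open Cfsg.Agent.Lib.Helper3.CharTrans
open scoped ComplexConjugate

universe u

namespace Cfsg.Agent.Lib.Helper3.CharMono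

theorem sum_comp_surj {H Q : Type*} [Group H] [Group Q] [Fintype H] [Fintype Q] (π : H →* Q)
    (hπ : Function.Surjective π) (F : Q → ℂ) :
    ∑ x : H, F (π x) = (Nat.card π.ker : ℂ) * ∑ q : Q, F q := by
  classical
  rw [← Finset.sum_fiberwise_of_maps_to (s := Finset.univ) (t := Finset.univ) (g := π)
    (fun _ _ => Finset.mem_univ _), Finset.mul_sum]
  apply Finset.sum_congr rfl
  intro q _
  have h1 : ∀ x ∈ Finset.univ.filter (fun x : H => π x = q), F (π x) = F q := by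
    intro x hx
    rw [(Finset.mem_filter.mp hx).2]
  rw [Finset.sum_congr rfl h1, Finset.sum_const, nsmul_eq_mul]
  congr 2
  have h2 := MonoidHom.card_fiber_eq_of_mem_range π (hπ q : q ∈ Set.range π)
    (hπ 1 : (1 : Q) ∈ Set.range π)
  rw [h2, ← Nat.card_eq_finsetCard]
  apply Nat.card_congr
  exact Equiv.subtypeEquivRight (fun x => by simp [MonoidHom.mem_ker])

theorem ind_infl {H Q : Type*} [Group H] [Group Q] [Fintype H] [Fintype Q] (π : H →* Q)
    (hπ : Function.Surjective π) (U : Subgroup Q) (lam : U → ℂ) :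
    Cfsg.indFun (U.comap π) (fun u : U.comap π => lam ⟨π u, u.2⟩) =
      (Cfsg.indFun U lam) ∘ π := by
  classical
  have hext : ∀ y : H, Cfsg.extendByZero (U.comap π)
      (fun u : U.comap π => lam ⟨π u, u.2⟩) y = Cfsg.extendByZero U lam (π y) := by
    intro y
    by_cases hy : π y ∈ U
    · rw [extendByZero_mem U lam hy, extendByZero_mem (U.comap π) _ (Subgroup.mem_comap.mpr hy)]
    · rw [extendByZero_not_mem U lam hy,
        extendByZero_not_mem (U.comap π) _ (fun h => hy (Subgroup.mem_comap.mp h))]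
  have hcard : (Nat.card (U.comap π) : ℂ) = (Nat.card π.ker : ℂ) * (Nat.card U : ℂ) := by
    have h1 := sum_comp_surj π hπ (fun q => if q ∈ U then (1 : ℂ) else 0)
    rw [Finset.sum_boole, Finset.sum_boole] at h1
    have h2 : Nat.card (U.comap π) = (Finset.univ.filter (fun x : H => π x ∈ U)).card := by
      rw [← Nat.card_eq_finsetCard]
      apply Nat.card_congr
      exact Equiv.subtypeEquivRight (fun x => by simp)
    have h3 : Nat.card U = (Finset.univ.filter (fun q : Q => q ∈ U)).card := by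
      rw [← Nat.card_eq_finsetCard]
      apply Nat.card_congr
      exact Equiv.subtypeEquivRight (fun x => by simp)
    rw [h2, h3]
    exact h1
  funext g
  show Cfsg.indFun (U.comap π) _ g = Cfsg.indFun U lam (π g)
  unfold Cfsg.indFun
  rw [Finset.sum_congr rfl (fun x _ => hext (x⁻¹ * g * x))]
  have h4 : ∀ x : H, Cfsg.extendByZero U lam (π (x⁻¹ * g * x)) =
      (fun q : Q => Cfsg.extendByZero U lam (q⁻¹ * π g * q)) (π x) := by
    intro x
    simp only [map_mul, map_inv]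
  rw [Finset.sum_congr rfl (fun x _ => h4 x),
    sum_comp_surj π hπ (fun q : Q => Cfsg.extendByZero U lam (q⁻¹ * π g * q)), hcard]
  have hk : (Nat.card π.ker : ℂ) ≠ 0 := by exact_mod_cast Nat.card_pos.ne'
  have hU : (Nat.card U : ℂ) ≠ 0 := by exact_mod_cast Nat.card_pos.ne'
  field_simp

def IsMono (G : Type*) [Group G] [Fintype G] (χ : G → ℂ) : Prop :=
  ∃ (U : Subgroup G) (lam : U →* ℂˣ), χ = Cfsg.indFun U (fun u => (lam u : ℂ))

theorem mono_of_linear {G : Type*} [Group G] [Fintype G] {χ : G → ℂ}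
    (h : Cfsg.IsCharacter G χ) (h1 : χ 1 = 1) : IsMono G χ := by
  have hcf := char_classFun h
  obtain ⟨lam, rfl⟩ := hom_of_deg_one h h1
  refine ⟨⊤, lam.comp (⊤ : Subgroup G).subtype, ?_⟩
  exact (indFun_top _ hcf).symm

theorem mono_ind {G : Type*} [Group G] [Fintype G] (T : Subgroup G) [Fintype T] {η : T → ℂ}
    (h : IsMono T η) : IsMono G (Cfsg.indFun T η) := by
  obtain ⟨U, lam, rfl⟩ := h
  refine ⟨U.map T.subtype,
    lam.comp (U.equivMapOfInjective T.subtype T.subtype_injective).symm.toMonoidHom, ?_⟩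
  rw [ind_trans]
  rfl

theorem mono_infl {H Q : Type*} [Group H] [Group Q] [Fintype H] [Fintype Q] (π : H →* Q)
    (hπ : Function.Surjective π) {χ : Q → ℂ} (h : IsMono Q χ) : IsMono H (χ ∘ π) := by
  obtain ⟨U, lam, rfl⟩ := h
  refine ⟨U.comap π, lam.comp (π.subgroupComap U), ?_⟩
  rw [← ind_infl π hπ]
  rfl

theorem clifford_proper {G : Type*} [Group G] [Fintype G] (A : Subgroup G) (hA : A.Normal)
    [Fintype A] (χ : G → ℂ) (hχ : Cfsg.IsIrrCharacter G χ) (lam : A → ℂ)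
    (hlam : Cfsg.IsIrrCharacter A lam)
    (hcon : Cfsg.classInner (fun a : A => χ a) lam ≠ 0)
    (hni : ¬ ∀ (g : G) (a : A), lam ⟨g * a * g⁻¹, hA.conj_mem a a.2 g⟩ = lam a) :
    ∃ (T : Subgroup G) (hAT : A ≤ T), T ≠ ⊤ ∧
      (∀ g : G, g ∈ T ↔ ∀ a : A, lam ⟨g * a * g⁻¹, hA.conj_mem a a.2 g⟩ = lam a) ∧
      ∃ η : T → ℂ, Cfsg.IsIrrCharacter T η ∧ Cfsg.indFun T η = χ ∧
        Cfsg.classInner (fun a : A => η ⟨a, hAT a.2⟩) lam ≠ 0 := by
  classical
  obtain ⟨T, hT, hAT⟩ := Cfsg.Agent.S0887.exists_stab A hA lam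
    (char_classFun (isCharacter_of_irr hlam))
  have _t : Fintype T := Fintype.ofFinite _
  obtain ⟨η, hη, hηc, hind⟩ := Cfsg.Agent.S0169.exists_cliff A T hA lam hlam hT hAT χ hχ hcon
  refine ⟨T, hAT, ?_, hT, η, hη, hind, hηc⟩
  intro htop
  apply hni
  intro g a
  exact (hT g).mp (htop ▸ Subgroup.mem_top g) a

theorem central_of_inv {G : Type*} [Group G] [Fintype G] (A : Subgroup G) (hA : A.Normal)
    [Fintype A] (χ : G → ℂ) (hχ : Cfsg.IsIrrCharacter G χ) (lam : A → ℂ)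
    (hlam : Cfsg.IsIrrCharacter A lam) (hl1 : lam 1 = 1)
    (hcon : Cfsg.classInner (fun a : A => χ a) lam ≠ 0)
    (hinv : ∀ (g : G) (a : A), lam ⟨g * a * g⁻¹, hA.conj_mem a a.2 g⟩ = lam a)
    (a : A) (g : G) : χ ((a : G) * g * (a : G)⁻¹ * g⁻¹) = χ 1 := by
  have h8 := Cfsg.Agent.Lib.Helper3.CharAb.inv_restrict A hA χ hχ lam hlam hcon hinv
  obtain ⟨μ, hμ⟩ := hom_of_deg_one (isCharacter_of_irr hlam) hl1
  have e1 := congrFun h8 (a * ⟨g * (a⁻¹ : A) * g⁻¹, hA.conj_mem _ (a⁻¹ : A).2 g⟩)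
  have e2 := congrFun h8 1
  simp only [Pi.smul_apply, smul_eq_mul] at e1 e2
  have e3 : lam (a * ⟨g * (a⁻¹ : A) * g⁻¹, hA.conj_mem _ (a⁻¹ : A).2 g⟩) = 1 := by
    have h9 := hinv g a⁻¹
    have h10 : lam (a * ⟨g * (a⁻¹ : A) * g⁻¹, hA.conj_mem _ (a⁻¹ : A).2 g⟩) =
        lam a * lam ⟨g * (a⁻¹ : A) * g⁻¹, hA.conj_mem _ (a⁻¹ : A).2 g⟩ := by
      rw [hμ]
      show ((μ (a * _) : ℂˣ) : ℂ) = _
      rw [map_mul, Units.val_mul]
    rw [h10, h9, hμ]
    show ((μ a : ℂˣ) : ℂ) * ((μ a⁻¹ : ℂˣ) : ℂ) = 1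
    rw [← Units.val_mul, ← map_mul, mul_inv_cancel, map_one, Units.val_one]
  rw [e3, mul_one] at e1
  rw [hl1, mul_one] at e2
  have e4 : χ ((a : G) * g * (a : G)⁻¹ * g⁻¹) =
      χ ((a * ⟨g * (a⁻¹ : A) * g⁻¹, hA.conj_mem _ (a⁻¹ : A).2 g⟩ : A) : G) := by
    congr 1
    show _ = (a : G) * (g * (a : G)⁻¹ * g⁻¹)
    group
  rw [e4, e1]
  exact e2.symm

theorem exists_ker {G : Type*} [Group G] [Finite G] {χ : G → ℂ} (hχ : Cfsg.IsCharacter G χ) :
    ∃ K : Subgroup G, K.Normal ∧ ∀ g, g ∈ K ↔ χ g = χ 1 := by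
  obtain ⟨n, ρ, rfl⟩ := hχ
  refine ⟨(ρ.toHomUnits).ker, inferInstance, fun g => ?_⟩
  rw [MonoidHom.mem_ker, Representation.char_one, Cfsg.Agent.S0139.result ρ g]
  constructor
  · intro h
    have h1 := congrArg (fun u : (Module.End ℂ (Fin n → ℂ))ˣ => (u : Module.End ℂ (Fin n → ℂ))) h
    exact h1
  · intro h
    apply Units.ext
    exact h

theorem faithful_quot {G : Type u} [Group G] [Finite G] {χ : G → ℂ}
    (hχ : Cfsg.IsIrrCharacter G χ) (K : Subgroup G) [K.Normal]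
    (hK : ∀ g, g ∈ K ↔ χ g = χ 1) :
    ∃ χ' : G ⧸ K → ℂ, Cfsg.IsIrrCharacter (G ⧸ K) χ' ∧ (χ' ∘ (QuotientGroup.mk' K) = χ) ∧
      ∀ q : G ⧸ K, χ' q = χ' 1 → q = 1 := by
  obtain ⟨χ', h1, h2⟩ := descend (QuotientGroup.mk' K) (QuotientGroup.mk'_surjective K) χ hχ
    (fun z hz => (hK z).mp ((QuotientGroup.eq_one_iff z).mp hz))
  refine ⟨χ', h1, funext h2, ?_⟩
  intro q hq
  obtain ⟨g, rfl⟩ := QuotientGroup.mk'_surjective K q
  rw [h2 g] at hq
  have h3 : χ' 1 = χ 1 := by rw [← h2 1, map_one]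
  rw [h3] at hq
  exact (QuotientGroup.eq_one_iff g).mpr ((hK g).mpr hq)

end Cfsg.Agent.Lib.Helper3.CharMono
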