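import Mathlib
import Cfsg.Prelude.Def_Characters
import Cfsg.Agent.Lib.Helper3.Char
import Cfsg.Agent.Lib.Helper3.CharCore
import Cfsg.Agent.Lib.Helper3.CharTable

open Cfsg
open Cfsg.Agent.Lib.Helper3.Char Cfsg.Agent.Lib.Helper3.CharCore Cfsg.Agent.Lib.Helper3.CharTable
open scoped ComplexConjugate

universe u

namespace Cfsg.Agent.Lib.Helper3.CharSep

theorem isConj_of_char_eq {G : Type u} [Group G] [Finite G] (a b : G)
    (h : ∀ χ : Cfsg.IrrCharacter G, (χ : G → ℂ) a = (χ : G → ℂ) b) : IsConj a b := by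
  classical
  have _fg : Fintype G := Fintype.ofFinite G
  have _fi : Fintype (Cfsg.IrrCharacter G) := Fintype.ofFinite _
  have h1 := column_orth a b
  have h2 := column_orth b b
  have h3 : ∑ χ : Cfsg.IrrCharacter G, (χ : G → ℂ) a * conj ((χ : G → ℂ) b) =
      ∑ χ : Cfsg.IrrCharacter G, (χ : G → ℂ) b * conj ((χ : G → ℂ) b) :=
    Finset.sum_congr rfl (fun χ _ => by rw [h χ])
  rw [h1, h2] at h3
  have h4 : Nat.card {y : G // y * a * y⁻¹ = b} = Nat.card {y : G // y * b * y⁻¹ = b} := by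
    exact_mod_cast h3
  have h5 : 0 < Nat.card {y : G // y * b * y⁻¹ = b} := by
    have : Nonempty {y : G // y * b * y⁻¹ = b} := ⟨⟨1, by simp⟩⟩
    exact Nat.card_pos
  rw [← h4] at h5
  obtain ⟨⟨y, hy⟩⟩ := (Nat.card_pos_iff.mp h5).1
  exact isConj_iff.mpr ⟨y, hy⟩

theorem char_eq_of_isConj {G : Type u} [Group G] [Finite G] (a b : G) (h : IsConj a b)
    (χ : Cfsg.IrrCharacter G) : (χ : G → ℂ) a = (χ : G → ℂ) b := by
  obtain ⟨t, ht⟩ := isConj_iff.mp h
  rw [← ht]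
  exact (char_classFun (isCharacter_of_irr χ.2) a t).symm

end Cfsg.Agent.Lib.Helper3.CharSep
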