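import Mathlib

set_option autoImplicit false
open scoped commutatorElement

namespace Cfsg.Agent.Lib.Helper3.Coprime

variable {P : Type*} [Group P]

theorem exists_comm_mem_of_nilpotent (S B D H : Subgroup P) [hS : Group.IsNilpotent ↥S]
    (hDS : D ≤ S) (hHS : H ≤ S) (hDH : ⁅D, H⁆ ≤ D) (hDB : ¬ D ≤ B) :
    ∃ x ∈ D, x ∉ B ∧ ∀ h ∈ H, ⁅x, h⁆ ∈ B := by
  classical
  have key : ∀ n : ℕ, (fun E : Subgroup P => ⁅E, H⁆)^[n] D ≤ D ⊓ S.lowerCentralSeries n := by
    intro n
    induction n with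
    | zero => simpa using hDS
    | succ n ih =>
      rw [Function.iterate_succ_apply']
      refine le_inf ((Subgroup.commutator_mono (ih.trans inf_le_left) le_rfl).trans hDH) ?_
      rw [Subgroup.lowerCentralSeries_succ]
      exact Subgroup.commutator_mono (ih.trans inf_le_right) hHS
  obtain ⟨n, hn⟩ := (Subgroup.isNilpotent_iff_lowerCentralSeries S).mp hS
  have hex : ∃ n, (fun E : Subgroup P => ⁅E, H⁆)^[n] D ≤ B :=
    ⟨n, (key n).trans (inf_le_right.trans (hn ▸ bot_le))⟩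
  have hm := Nat.find_spec hex
  have hm0 : Nat.find hex ≠ 0 := by
    intro h0
    rw [h0] at hm
    exact hDB hm
  obtain ⟨j, hj⟩ := Nat.exists_eq_succ_of_ne_zero hm0
  have hj' : ¬ ((fun E : Subgroup P => ⁅E, H⁆)^[j] D ≤ B) := Nat.find_min hex (by omega)
  obtain ⟨x, hx, hxB⟩ := SetLike.not_le_iff_exists.mp hj'
  refine ⟨x, (key j hx).1, hxB, fun h hh => ?_⟩
  apply hm
  rw [hj, Function.iterate_succ_apply']
  exact Subgroup.commutator_mem_commutator hx hh

theorem commute_of_coprime_comm (x a : P) (hd : a * ⁅x, a⁆ = ⁅x, a⁆ * a)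
    (hcop : (orderOf a).Coprime (orderOf ⁅x, a⁆)) : x * a = a * x := by
  have h1 : x * a * x⁻¹ = ⁅x, a⁆ * a := by
    simp only [commutatorElement_def]; group
  have h2 : ∀ k : ℕ, x * a ^ k * x⁻¹ = ⁅x, a⁆ ^ k * a ^ k := by
    intro k
    rw [← conj_pow, h1, (show Commute ⁅x, a⁆ a from hd.symm).mul_pow]
  have h3 := h2 (orderOf a)
  rw [pow_orderOf_eq_one, mul_one, mul_inv_cancel, mul_one] at h3
  have h4 : orderOf ⁅x, a⁆ ∣ orderOf a := orderOf_dvd_of_pow_eq_one h3.symm
  have h5 : orderOf ⁅x, a⁆ = 1 := Nat.Coprime.eq_one_of_dvd hcop.symm h4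
  have h6 : ⁅x, a⁆ = 1 := orderOf_eq_one_iff.mp h5
  rw [h6, one_mul] at h1
  calc x * a = x * a * x⁻¹ * x := by group
    _ = a * x := by rw [h1]

theorem centralizes_of_chain (a : P) (n : ℕ) (c : Fin (n + 1) → Subgroup P)
    (hcn : c (Fin.last n) = ⊥) (hanti : Antitone c)
    (hcop : ∀ d ∈ c 0, (orderOf a).Coprime (orderOf d))
    (htriv : ∀ i : Fin n, ∀ h ∈ c i.castSucc, ⁅h, a⁆ ∈ c i.succ) :
    ∀ h ∈ c 0, h * a = a * h := by
  have key : ∀ i : Fin (n + 1), ∀ h ∈ c i, h * a = a * h := by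
    intro i
    induction i using Fin.reverseInduction with
    | last =>
      intro h hh
      rw [hcn, Subgroup.mem_bot] at hh
      subst hh
      simp
    | cast i ih =>
      intro h hh
      have hd := htriv i h hh
      apply commute_of_coprime_comm
      · exact (ih _ hd).symm
      · exact hcop _ (hanti (Fin.zero_le _) hd)
  exact key 0

end Cfsg.Agent.Lib.Helper3.Coprime
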