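import Mathlib

set_option autoImplicit false
open scoped commutatorElement

namespace Cfsg.Agent.Lib.Helper3.PGroup

variable {P : Type*} [Group P]

theorem exists_comm_mem [Group.IsNilpotent P] (B D H : Subgroup P) (hDH : ⁅D, H⁆ ≤ D)
    (hDB : ¬ D ≤ B) : ∃ x ∈ D, x ∉ B ∧ ∀ h ∈ H, ⁅x, h⁆ ∈ B := by
  classical
  have key : ∀ n : ℕ, (fun E : Subgroup P => ⁅E, H⁆)^[n] D ≤
      D ⊓ Subgroup.lowerCentralSeries (⊤ : Subgroup P) n := by
    intro n
    induction n with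
    | zero => simp
    | succ n ih =>
      rw [Function.iterate_succ_apply']
      refine le_inf ((Subgroup.commutator_mono (ih.trans inf_le_left) le_rfl).trans hDH) ?_
      rw [Subgroup.lowerCentralSeries_succ]
      exact Subgroup.commutator_mono (ih.trans inf_le_right) le_top
  obtain ⟨n, hn⟩ := Subgroup.nilpotent_iff_lowerCentralSeries.mp (inferInstance : Group.IsNilpotent P)
  have hex : ∃ n, (fun E : Subgroup P => ⁅E, H⁆)^[n] D ≤ B :=
    ⟨n, (key n).trans (inf_le_right.trans (hn ▸ bot_le))⟩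
  have hm := Nat.find_spec hex
  have hm0 : Nat.find hex ≠ 0 := by
    intro h0
    rw [h0] at hm
    exact hDB hm
  obtain ⟨j, hj⟩ := Nat.exists_eq_succ_of_ne_zero hm0
  have hj' : ¬ ((fun E : Subgroup P => ⁅E, H⁆)^[j] D ≤ B) := Nat.find_min hex (by omega)
  obtain ⟨x, hx, hxB⟩ := SetLike.not_le_iff_exists.mp hj'
  refine ⟨x, (key j hx).1, hxB, fun h hh => ?_⟩
  apply hm
  rw [hj, Function.iterate_succ_apply']
  exact Subgroup.commutator_mem_commutator hx hh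

theorem mem_sup_zpowers (B : Subgroup P) (x : P) (hx : x ∈ Subgroup.centralizer (B : Set P)) (y : P)
    (hy : y ∈ B ⊔ Subgroup.zpowers x) : ∃ b ∈ B, ∃ k : ℤ, y = b * x ^ k := by
  have hcomm : ∀ b ∈ B, ∀ k : ℤ, x ^ k * b = b * x ^ k := by
    intro b hb k
    have h1 : Commute x b := (Subgroup.mem_centralizer_iff.mp hx b hb).symm
    exact (h1.zpow_left k).eq
  let M : Subgroup P :=
    { carrier := {y | ∃ b ∈ B, ∃ k : ℤ, y = b * x ^ k}
      mul_mem' := by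
        rintro _ _ ⟨b, hb, k, rfl⟩ ⟨b', hb', l, rfl⟩
        refine ⟨b * b', B.mul_mem hb hb', k + l, ?_⟩
        rw [zpow_add, mul_assoc, ← mul_assoc (x ^ k), hcomm b' hb' k]
        simp only [mul_assoc]
      one_mem' := ⟨1, B.one_mem, 0, by simp⟩
      inv_mem' := by
        rintro _ ⟨b, hb, k, rfl⟩
        refine ⟨b⁻¹, B.inv_mem hb, -k, ?_⟩
        rw [mul_inv_rev, ← zpow_neg, hcomm b⁻¹ (B.inv_mem hb)] }
  have hle : B ⊔ Subgroup.zpowers x ≤ M := by
    apply sup_le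
    · intro b hb
      exact ⟨b, hb, 0, by simp⟩
    · rw [Subgroup.zpowers_le]
      exact ⟨1, B.one_mem, 1, by simp⟩
  exact hle hy

theorem centralizer_le_normalizer' (Z : Subgroup P) :
    Subgroup.centralizer (Z : Set P) ≤ Subgroup.normalizer (Z : Set P) := by
  intro s hs
  rw [Subgroup.mem_normalizer_iff]
  intro h
  have hc := Subgroup.mem_centralizer_iff.mp hs
  constructor
  · intro hh
    have h1 : s * h * s⁻¹ = h := by rw [← hc h hh]; group
    rw [h1]; exact hh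
  · intro hh
    have h1 := hc _ hh
    have h2 : h = s * h * s⁻¹ := by
      calc h = s⁻¹ * (s * h * s⁻¹ * s) := by group
        _ = s⁻¹ * (s * (s * h * s⁻¹)) := by rw [h1]
        _ = s * h * s⁻¹ := by group
    rw [h2]; exact hh

theorem comm_mem_closure (Z Q : Subgroup P) (S : Set P)
    (hS : ∀ s ∈ S, s ∈ Subgroup.normalizer (Z : Set P) ∧ ∀ q ∈ Q, ⁅s, q⁆ ∈ Z) :
    ∀ y ∈ Subgroup.closure S, ∀ q ∈ Q, ⁅y, q⁆ ∈ Z := by
  let M : Subgroup P :=
    { carrier := {g | g ∈ Subgroup.normalizer (Z : Set P) ∧ ∀ q ∈ Q, ⁅g, q⁆ ∈ Z}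
      mul_mem' := by
        rintro u v ⟨hu, hu'⟩ ⟨hv, hv'⟩
        refine ⟨Subgroup.mul_mem _ hu hv, fun q hq => ?_⟩
        have h1 : ⁅u * v, q⁆ = u * ⁅v, q⁆ * u⁻¹ * ⁅u, q⁆ := by
          simp only [commutatorElement_def]; group
        rw [h1]
        exact Z.mul_mem ((Subgroup.mem_normalizer_iff.mp hu _).mp (hv' q hq)) (hu' q hq)
      one_mem' := ⟨Subgroup.one_mem _, fun q _ => by simp⟩
      inv_mem' := by
        rintro u ⟨hu, hu'⟩
        refine ⟨Subgroup.inv_mem _ hu, fun q hq => ?_⟩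
        have h1 : ⁅u⁻¹, q⁆ = u⁻¹ * ⁅u, q⁆⁻¹ * u := by
          simp only [commutatorElement_def]; group
        rw [h1]
        exact (Subgroup.mem_normalizer_iff''.mp hu _).mp (Z.inv_mem (hu' q hq)) }
  have hle : Subgroup.closure S ≤ M := by
    rw [Subgroup.closure_le]
    intro s hs
    exact hS s hs
  intro y hy q hq
  exact (hle hy).2 q hq

theorem sup_zpowers_eq_closure (B : Subgroup P) (x : P) :
    B ⊔ Subgroup.zpowers x = Subgroup.closure ((B : Set P) ∪ {x}) := by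
  rw [Subgroup.closure_union, Subgroup.closure_eq, Subgroup.zpowers_eq_closure]

theorem mem_normalizer_of_comm_mem (B : Subgroup P) (q : P)
    (h1 : ∀ y ∈ B, ⁅y, q⁆ ∈ B) (h2 : ∀ y ∈ B, ⁅y, q⁻¹⁆ ∈ B) :
    q ∈ Subgroup.normalizer (B : Set P) := by
  rw [Subgroup.mem_normalizer_iff]
  have key : ∀ (r : P), (∀ y ∈ B, ⁅y, r⁆ ∈ B) → ∀ y ∈ B, r * y * r⁻¹ ∈ B := by
    intro r hr y hy
    have h3 : r * y * r⁻¹ = (⁅y, r⁆)⁻¹ * y := by
      simp only [commutatorElement_def]; group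
    rw [h3]
    exact B.mul_mem (B.inv_mem (hr y hy)) hy
  intro h
  constructor
  · exact key q h1 h
  · intro hh
    have h3 := key q⁻¹ h2 _ hh
    have h4 : q⁻¹ * (q * h * q⁻¹) * q⁻¹⁻¹ = h := by group
    rw [h4] at h3
    exact h3

theorem comm_mem_of_mem_normalizer (B : Subgroup P) (q : P)
    (hq : q ∈ Subgroup.normalizer (B : Set P)) (y : P) (hy : y ∈ B) : ⁅y, q⁆ ∈ B := by
  have h1 : ⁅y, q⁆ = y * (q * y⁻¹ * q⁻¹) := by
    simp only [commutatorElement_def]; group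
  rw [h1]
  exact B.mul_mem hy ((Subgroup.mem_normalizer_iff.mp hq _).mp (B.inv_mem hy))

theorem commutator_centralizer_le (B Q : Subgroup P) (hQ : Q ≤ Subgroup.normalizer (B : Set P)) :
    ⁅Subgroup.centralizer (B : Set P), Q⁆ ≤ Subgroup.centralizer (B : Set P) := by
  rw [Subgroup.commutator_le]
  intro d hd q hq
  have h1 : ⁅d, q⁆ = d * (q * d⁻¹ * q⁻¹) := by
    simp only [commutatorElement_def]; group
  rw [h1]
  refine Subgroup.mul_mem _ hd ?_
  rw [Subgroup.mem_centralizer_iff]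
  intro b hb
  have h2 : q⁻¹ * b * q ∈ B := (Subgroup.mem_normalizer_iff''.mp (hQ hq) b).mp hb
  have h3 := Subgroup.mem_centralizer_iff.mp (Subgroup.inv_mem _ hd) _ h2
  calc b * (q * d⁻¹ * q⁻¹) = q * (q⁻¹ * b * q * d⁻¹) * q⁻¹ := by group
    _ = q * (d⁻¹ * (q⁻¹ * b * q)) * q⁻¹ := by rw [h3]
    _ = q * d⁻¹ * q⁻¹ * b := by group

theorem exists_centralizer_elt [Group.IsNilpotent P] (B Q : Subgroup P)
    (hQ : Q ≤ Subgroup.normalizer (B : Set P)) (hC : ¬ Subgroup.centralizer (B : Set P) ≤ B) :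
    ∃ x ∈ Subgroup.centralizer (B : Set P), x ∉ B ∧
      ∀ q ∈ Q, ⁅x, q⁆ ∈ B ⊓ Subgroup.centralizer (B : Set P) := by
  have hDQ := commutator_centralizer_le B Q hQ
  obtain ⟨x, hx, hxB, hxq⟩ := exists_comm_mem B (Subgroup.centralizer (B : Set P)) Q hDQ hC
  exact ⟨x, hx, hxB, fun q hq =>
    Subgroup.mem_inf.mpr ⟨hxq q hq, hDQ (Subgroup.commutator_mem_commutator hx hq)⟩⟩

end Cfsg.Agent.Lib.Helper3.PGroup
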